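import Cfsg.Agent.Lib.McLMult.Cover
import Cfsg.Agent.Lib.Schur.PcCollect

/-!
# Certificates inside the McLaughlin group

Members are words in the three generators; equality is agreement on the base, and a generator is outside
the group of the later ones when its images of the base are not among the listed ones.
-/

set_option autoImplicit false
set_option maxRecDepth 20000

namespace Cfsg.Agent.Lib.McLMult

open Cfsg.Agent.Lib.Schur (Fusion.KillsPart)
open Cfsg.Agent.Lib.Schur.PcCollect (Data Equat Vec)

/-- A word in listed members as a word in the generators. -/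
def wordsOf (ix : List (List ℕ)) (l : List ℕ) : List ℕ := l.flatMap fun i => ix.getD i []

theorem el_eq (ix : List (List ℕ)) : ∀ l : List ℕ,
    Data.el (fun i => wM (ix.getD i [])) l = wM (wordsOf ix l)
  | [] => rfl
  | i :: l => by
    rw [Data.el_cons, el_eq ix l, ← wM_append]
    rfl

/-- The relations hold. -/
def relsOk (D : Data) (ix : List (List ℕ)) : Bool :=
  (List.range D.n).all fun i => (List.range (i + 1)).all fun j =>
    eqB (wordsOf ix (D.lhs i j)) (wordsOf ix (D.rhs i j))

/-- The conjugations hold. -/
def conjsOk (D : Data) (ix xs : List (List ℕ)) : Bool :=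
  (List.range D.conjs.length).all fun c =>
    let uv := D.conjs.getD c ([], [])
    (List.range uv.1.length).all fun k =>
      eqB (xs.getD c [] ++ wordsOf ix (uv.1.getD k [])) (wordsOf ix (uv.2.getD k []) ++ xs.getD c [])

/-- Each generator moves the base out of a set of images preserved by the later ones. -/
def sepOk (D : Data) (ix : List (List ℕ)) (sep : List (List (List ℕ))) : Bool :=
  (List.range D.n).all fun j =>
    let d := sep.getD j []
    d.contains basePts && !(d.contains (basePts.map (imgW (ix.getD j [])))) &&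
      (d.all fun t => t.all fun b => Nat.blt b 275) &&
      (List.range D.n).all fun l => !Nat.blt j l ||
        d.all fun t => d.contains (t.map (imgW (ix.getD l [])))

/-- The image of a list of points. -/
noncomputable def actL (g : M) (t : List ℕ) : List ℕ :=
  t.map fun b => if h : b < 275 then (act g ⟨b, h⟩).1 else b

theorem actL_wM (w t : List ℕ) (h : ∀ b ∈ t, b < 275) : actL (wM w) t = t.map (imgW w) :=
  List.map_congr_left fun b hb => by rw [dif_pos (h b hb), act_wM]

theorem actL_one (t : List ℕ) : actL 1 t = t := by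
  refine (List.map_congr_left fun b _ => ?_).trans (List.map_id t)
  split_ifs with h
  · rw [act_one]; rfl
  · rfl

theorem actL_mul (g h : M) (t : List ℕ) : actL (g * h) t = actL g (actL h t) := by
  rw [actL, actL, actL, List.map_map]
  refine List.map_congr_left fun b _ => ?_
  by_cases hb : b < 275
  · simp [hb, act_mul]
  · simp [hb]

/-- Data passing the checks kills the part at its prime. -/
theorem exists_part (D : Data) (hp : D.p.Prime) {α : Type} [BEq α] [LawfulBEq α] (V : Vec D.p α)
    {ix xs : List (List ℕ)} {sep : List (List (List ℕ))} {eqs : List (Equat × α)}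
    {combos : List (List ℕ)} (hcert : D.certOk V eqs combos = true) (hrels : relsOk D ix = true)
    (hsep : sepOk D ix sep = true) (hconjs : conjsOk D ix xs = true)
    (hidx : ¬ D.p ^ (D.n + 1) ∣ Nat.card M) :
    ∃ S : Subgroup M, ¬ D.p ∣ S.index ∧ Fusion.KillsPart D.p S := by
  simp only [relsOk, List.all_eq_true, List.mem_range] at hrels
  have hrel : ∀ i < D.n, ∀ j ≤ i, Data.el (fun i => wM (ix.getD i [])) (D.lhs i j) =
      Data.el (fun i => wM (ix.getD i [])) (D.rhs i j) := fun i hi j hj => by
    rw [el_eq, el_eq]
    exact wM_eq (hrels i hi j (by omega))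
  have hW : ∀ i < D.n, ∀ j ≤ i, ∀ l ∈ D.word i j, j < l ∧ l < D.n := by
    intro i hi j hj l hl
    have hc := hcert
    simp only [Data.certOk, Bool.and_eq_true, List.all_eq_true, List.mem_range, Nat.blt_eq] at hc
    exact hc.1.1 i hi j (by omega) l hl
  simp only [sepOk, Bool.and_eq_true, List.all_eq_true, List.mem_range, Nat.blt_eq, Bool.or_eq_true,
    Bool.not_eq_true', List.contains_iff_mem] at hsep
  have hel := el_eq ix
  generalize hg : (fun i => wM (ix.getD i [])) = g at hel hrel
  have hgi : ∀ i, g i = wM (ix.getD i []) := fun i => by rw [← hg]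
  have hstrict : ∀ j < D.n, g j ∉ Subgroup.closure (g '' {l | j < l ∧ l < D.n}) := by
    intro j hj hmem
    obtain ⟨⟨⟨hin, hout⟩, hv⟩, hinv⟩ := hsep j hj
    generalize sep.getD j [] = d at hin hout hv hinv
    have hQ : ∀ x ∈ Subgroup.closure (g '' {l | j < l ∧ l < D.n}), ∀ t ∈ d, actL x t ∈ d := by
      intro x hx
      rw [← Subgroup.mem_toSubmonoid, Subgroup.closure_toSubmonoid_of_finite] at hx
      induction hx using Submonoid.closure_induction with
      | mem y hy =>
        obtain ⟨l, ⟨hjl, hl⟩, rfl⟩ := hy
        intro t ht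
        rw [hgi, actL_wM _ _ (hv t ht)]
        refine (hinv l hl).resolve_left (fun hn => ?_) t ht
        rw [Bool.eq_false_iff, ne_eq, Nat.blt_eq] at hn
        exact hn hjl
      | one => intro t ht; rw [actL_one]; exact ht
      | mul a b _ _ ha hb => intro t ht; rw [actL_mul]; exact ha _ (hb t ht)
    have h1 := hQ _ hmem basePts hin
    rw [hgi, actL_wM _ _ (hv _ hin), ← List.contains_iff_mem] at h1
    exact Bool.false_ne_true (hout.symm.trans h1)
  refine ⟨Subgroup.closure (g '' {l | l < D.n}), fun hd => hidx ?_,
    Cfsg.Agent.Lib.Schur.PcCollect.killsPart_of_cert _ D hp V g hcert hrel hstrict ?_ hidx⟩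
  · rw [← (Subgroup.closure (g '' {l | l < D.n})).card_mul_index,
      Cfsg.Agent.Lib.Schur.PcCollect.card_series D hp g hW hrel hstrict, pow_succ]
    exact Nat.mul_dvd_mul_left _ hd
  · intro uv huv
    obtain ⟨c, hcl, rfl⟩ := List.getElem_of_mem huv
    simp only [conjsOk, List.all_eq_true, List.mem_range] at hconjs
    refine ⟨wM (xs.getD c []), fun k hk => ?_⟩
    have hh := hconjs c hcl k (by rwa [List.getD_eq_getElem _ _ hcl])
    rw [List.getD_eq_getElem _ _ hcl] at hh
    rw [mul_inv_eq_iff_eq_mul, hel, hel, ← wM_append, ← wM_append]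
    exact wM_eq hh

/-- A word of prime order. -/
def primeOk (w : List ℕ) (q : ℕ) : Bool :=
  eqB (List.replicate q w).flatten [] && !eqB w []

theorem wM_pow (w : List ℕ) : ∀ q : ℕ, wM (List.replicate q w).flatten = wM w ^ q
  | 0 => by rw [pow_zero]; rfl
  | q + 1 => by rw [List.replicate_succ, List.flatten_cons, wM_append, wM_pow w q, pow_succ']

/-- The part at a prime dividing the order only once. -/
theorem exists_cyclic {w : List ℕ} {q : ℕ} (hq : q.Prime) (h : primeOk w q = true)
    (hidx : ¬ q ^ 2 ∣ Nat.card M) :
    ∃ S : Subgroup M, ¬ q ∣ S.index ∧ Fusion.KillsPart q S := by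
  simp only [primeOk, Bool.and_eq_true, Bool.not_eq_true'] at h
  have := Fact.mk hq
  have ho : orderOf (wM w) = q := by
    refine orderOf_eq_prime ?_ (wM_ne h.2)
    rw [← wM_pow]
    exact wM_eq h.1
  refine ⟨Subgroup.zpowers (wM w), fun hd => hidx ?_, Cfsg.Agent.Lib.Schur.Fusion.killsPart_zpowers q _⟩
  rw [← (Subgroup.zpowers (wM w)).card_mul_index, Nat.card_zpowers, ho, pow_two]
  exact Nat.mul_dvd_mul_left q hd

end Cfsg.Agent.Lib.McLMult
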