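import Cfsg.Agent.Lib.Schur.PcCollect

/-!
# Certificates at two and five, and elements of orders seven and eleven (generated by scripts/mclmult)
-/

set_option autoImplicit false
set_option maxRecDepth 20000

namespace Cfsg.Agent.Lib.McLMult

open Cfsg.Agent.Lib.Schur.PcCollect (Data Equat)

/-- The presentation at 2. -/
def two : Data where
  p := 2
  n := 7
  fuel := 467
  W := [
    [6], [1, 2, 6], [], [2, 6], [2, 6], [6], [3, 5, 6], [3, 4], [3, 5], [], [4, 5], [4], [4, 6], [4], [],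
    [5], [5, 6], [5], [5], [5], [], [6], [6], [6], [6], [6], [6], []]
  phi := [[], [], [1, 0], [], [7], [6, 0], [0]]
  conjs := [([[4, 5, 6], [3, 4]],
      [[2, 4], [0, 2, 3]]),
    ([[1, 5], [1, 4], [1, 2], [6]],
      [[2, 3, 4, 6], [3, 6], [5, 6], [5]]),
    ([[4], [3], [2], [0], [6], [5]],
      [[3, 4, 5], [4, 5], [2, 3, 6], [0, 4, 6], [5, 6], [6]])]

/-- The equations at 2. -/
def twoEqs : List (Equat × ℕ) := [
  (.overlap [] 0 0 [0], 2097152),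
  (.overlap [] 1 0 [0], 14680104),
  (.overlap [] 1 1 [0], 4194352),
  (.overlap [] 2 0 [0], 144703488),
  (.overlap [] 2 1 [0], 14680064),
  (.overlap [] 2 2 [1], 146800640),
  (.overlap [] 3 0 [0], 221282304),
  (.overlap [] 3 1 [0], 155391232),
  (.overlap [] 3 1 [1], 18432),
  (.overlap [] 3 2 [0], 92438528),
  (.overlap [] 3 2 [1], 118034432),
  (.overlap [] 3 2 [2], 17956864),
  (.overlap [] 3 3 [0], 219414528),
  (.overlap [] 3 3 [1], 24576),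
  (.overlap [] 3 3 [2], 1310720),
  (.overlap [] 4 0 [0], 34635776),
  (.overlap [] 4 1 [0], 176361472),
  (.overlap [] 4 2 [0], 35782656),
  (.conj 0 [([0, 0], [])], 68685856),
  (.conj 0 [([1, 1], [])], 17981801),
  (.conj 1 [([0, 0], [3]), ([1, 0], [0, 1, 3])], 135289380),
  (.conj 1 [([2, 1], [1, 2])], 117708816),
  (.conj 1 [([2, 2], [])], 76546100),
  (.conj 2 [([2, 1], [1, 2, 5]), ([3, 0], [0, 3, 5])], 68587840)]

/-- The combinations at 2. -/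
def twoCombos : List (List ℕ) := [
  [], [], [2, 5, 6, 11, 15, 17, 22], [0, 3, 4, 5, 6, 10, 11, 13, 14, 16, 18, 19, 23],
  [1, 2, 6, 10, 11, 13, 14, 16, 18, 19, 23], [0, 1, 3, 5, 6, 10, 11, 13, 14, 16, 18, 19, 23], [], [],
  [1, 4, 11, 13, 19], [2, 4, 6, 8, 9, 10, 12, 14, 16, 18, 20, 22], [1, 3, 7, 9, 12, 13, 14, 15, 16, 19],
  [2, 3, 4, 6, 9, 10, 11, 12, 16, 17, 18, 21], [1, 5, 6, 13, 14, 19, 23],
  [2, 3, 4, 6, 8, 9, 10, 11, 12, 13, 16, 17, 18, 21], [2, 3, 4, 6, 8, 9, 10, 11, 12, 16, 17, 18, 21],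
  [0, 3, 6, 9, 15, 17], [1, 3, 5, 6, 13, 14, 16, 17, 19, 23], [6, 12, 14, 15, 17], [3, 9, 12, 15, 17],
  [3, 4, 5, 6, 10, 15, 16, 17], [3, 9, 12, 14, 15, 17], [0], [0, 3, 5], [3, 4, 5], [3, 6, 9, 11],
  [0, 6, 12, 14, 15], [0, 3, 4, 5, 6, 9, 11, 12, 14], [0, 4, 5]]

/-- The generators at 2 as words. -/
def twoIx : List (List ℕ) := [
  [0, 0, 0, 2, 1, 2, 0, 1, 0, 1, 0, 2, 0, 2, 2, 2, 1],
  [0, 0, 2, 0, 2, 2, 2, 0, 2, 2, 2, 2, 0, 2, 0, 0, 0, 0, 2, 0],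
  [0, 2, 2, 2, 2, 2, 2, 0, 0, 2, 2, 2, 2, 0, 2, 0, 2, 2, 0],
  [0, 2, 0, 2, 0, 0, 2, 2, 2, 0, 0, 2, 2, 2],
  [0, 0, 2, 2, 0, 0, 2, 2, 0, 0, 2, 2, 0, 0, 2, 2],
  [0, 0, 1, 2, 2, 2, 0, 1, 2, 0, 1, 1, 0, 0, 2, 0, 1, 1, 1],
  [0, 2, 0, 0, 0, 2, 0, 2, 2, 2, 0, 0, 0, 2, 0, 2, 2]]

/-- The conjugators at 2 as words. -/
def twoXs : List (List ℕ) := [
  [0, 0, 0, 1, 0, 0, 2, 1, 0, 1, 1, 1, 0, 2, 0, 2, 1, 1, 0],
  [2, 1, 2, 1, 1, 1, 2, 0, 2, 1, 2, 2, 2, 2, 0, 1, 1, 1, 1, 0],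
  [1, 2, 2, 1, 0, 1, 0, 1, 2, 0, 2, 1, 2, 2, 2, 2, 2, 0]]

/-- The base images of the members of each term of the series at 2. -/
def twoSep : List (List (List ℕ)) := [
  [
    [0, 142, 143, 144, 145], [0, 170, 143, 185, 183], [6, 92, 30, 107, 109], [13, 92, 176, 118, 107],
    [6, 72, 55, 109, 107], [0, 148, 147, 155, 151], [0, 148, 157, 144, 145], [6, 38, 48, 29, 32],
    [21, 38, 152, 58, 29], [6, 22, 55, 32, 29], [0, 161, 149, 189, 165], [0, 161, 157, 185, 183],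
    [6, 22, 30, 29, 32], [21, 148, 153, 151, 144], [0, 142, 147, 145, 144], [6, 72, 37, 82, 118],
    [6, 72, 48, 107, 109], [13, 161, 176, 189, 183], [21, 142, 146, 145, 155], [21, 148, 152, 155, 145],
    [13, 72, 180, 109, 82], [13, 72, 159, 118, 107], [0, 148, 149, 145, 144], [6, 92, 48, 118, 82],
    [6, 92, 37, 109, 107], [0, 170, 147, 189, 165], [0, 142, 149, 155, 151], [13, 161, 159, 165, 185],
    [0, 170, 149, 183, 185], [6, 22, 37, 49, 58], [13, 170, 180, 183, 189], [21, 22, 146, 32, 49],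
    [21, 22, 153, 58, 29], [0, 161, 147, 183, 185], [6, 38, 30, 58, 49], [6, 38, 37, 32, 29],
    [13, 170, 176, 165, 185], [6, 38, 55, 49, 58], [21, 38, 153, 49, 32], [13, 92, 197, 109, 82],
    [13, 72, 176, 82, 109], [21, 142, 152, 151, 144], [0, 148, 143, 151, 155], [6, 92, 55, 82, 118],
    [21, 22, 154, 29, 58], [13, 170, 197, 185, 165], [13, 170, 159, 189, 183], [21, 38, 146, 29, 58],
    [13, 92, 180, 107, 118], [21, 148, 154, 145, 155], [13, 72, 197, 107, 118], [21, 142, 154, 144, 151],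
    [21, 142, 153, 155, 145], [13, 161, 180, 185, 165], [13, 92, 159, 82, 109], [0, 142, 157, 151, 155],
    [6, 22, 48, 58, 49], [6, 72, 30, 118, 82], [21, 38, 154, 32, 49], [21, 22, 152, 49, 32],
    [0, 161, 143, 165, 189], [13, 161, 197, 183, 189], [21, 148, 146, 144, 151], [0, 170, 157, 165, 189]],
  [
    [0, 142, 143, 144, 145], [6, 92, 30, 107, 109], [13, 92, 176, 118, 107], [6, 72, 55, 109, 107],
    [0, 148, 147, 155, 151], [0, 148, 157, 144, 145], [21, 148, 153, 151, 144], [0, 142, 147, 145, 144],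
    [6, 72, 37, 82, 118], [6, 72, 48, 107, 109], [21, 142, 146, 145, 155], [21, 148, 152, 155, 145],
    [13, 72, 180, 109, 82], [13, 72, 159, 118, 107], [0, 148, 149, 145, 144], [6, 92, 48, 118, 82],
    [6, 92, 37, 109, 107], [0, 142, 149, 155, 151], [13, 92, 197, 109, 82], [13, 72, 176, 82, 109],
    [21, 142, 152, 151, 144], [0, 148, 143, 151, 155], [6, 92, 55, 82, 118], [13, 92, 180, 107, 118],
    [21, 148, 154, 145, 155], [13, 72, 197, 107, 118], [21, 142, 154, 144, 151], [21, 142, 153, 155, 145],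
    [13, 92, 159, 82, 109], [0, 142, 157, 151, 155], [6, 72, 30, 118, 82], [21, 148, 146, 144, 151]],
  [
    [0, 142, 143, 144, 145], [13, 92, 176, 118, 107], [6, 72, 55, 109, 107], [0, 148, 147, 155, 151],
    [0, 148, 157, 144, 145], [21, 148, 152, 155, 145], [13, 72, 180, 109, 82], [13, 72, 159, 118, 107],
    [6, 92, 48, 118, 82], [6, 92, 37, 109, 107], [0, 142, 149, 155, 151], [21, 142, 154, 144, 151],
    [21, 142, 153, 155, 145], [13, 92, 197, 109, 82], [6, 72, 30, 118, 82], [21, 148, 146, 144, 151]],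
  [
    [0, 142, 143, 144, 145], [6, 72, 55, 109, 107], [0, 148, 147, 155, 151], [0, 148, 157, 144, 145],
    [6, 92, 48, 118, 82], [6, 92, 37, 109, 107], [0, 142, 149, 155, 151], [6, 72, 30, 118, 82]],
  [
    [0, 142, 143, 144, 145], [0, 148, 147, 155, 151], [0, 148, 157, 144, 145], [0, 142, 149, 155, 151]],
  [
    [0, 142, 143, 144, 145], [0, 148, 157, 144, 145]],
  [
    [0, 142, 143, 144, 145]]]

/-- The presentation at 5. -/
def five : Data where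
  p := 5
  n := 3
  fuel := 1350
  W := [
    [], [1, 2, 2, 2], [], [2], [2], []]
  phi := [[], [], [1, 1]]
  conjs := [([[1], [0], [2]],
      [[0, 2, 2], [0, 0, 0, 0, 1, 1, 1, 1, 2, 2], [2]])]

/-- The equations at 5. -/
def fiveEqs : List (Equat × List ℕ) := [
  (.overlap [] 1 1 [0], [0, 0, 0, 0, 0, 3]),
  (.conj 0 [([0, 0, 0, 0, 0], [])], [1, 0, 4, 0, 0, 2]),
  (.conj 0 [([1, 1, 1, 1, 1], [])], [3, 0, 4, 0, 0, 1]),
  (.conj 0 [([2, 0], [0, 2])], [0, 0, 0, 1, 4]),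
  (.conj 0 [([2, 1], [1, 2])], [0, 0, 0, 3, 4])]

/-- The combinations at 5. -/
def fiveCombos : List (List ℕ) := [
  [0, 0, 0, 0, 1, 1, 1, 2, 2], [], [1, 1, 1, 1, 2, 2], [3, 3, 3, 4, 4], [3, 3, 3, 3, 4, 4], [0, 0, 0]]

/-- The generators at 5 as words. -/
def fiveIx : List (List ℕ) := [
  [0, 1, 1, 2, 2, 1, 1, 0, 1, 1, 0, 2, 0, 1, 0, 2, 1],
  [0, 0, 2, 1, 2, 2, 0, 0, 2, 2, 1, 1, 1, 2, 0, 0, 1, 1, 2, 0],
  [2, 0, 0, 2, 2, 2, 2, 1, 2, 1, 0, 0, 0, 0, 2, 2, 0, 0, 0]]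

/-- The conjugators at 5 as words. -/
def fiveXs : List (List ℕ) := [
  [1, 0, 1, 1, 0, 0, 1, 2, 1, 0, 2, 1, 2, 2, 1, 1]]

/-- The base images of the members of each term of the series at 5. -/
def fiveSep : List (List (List ℕ)) := [
  [
    [0, 142, 143, 144, 145], [40, 189, 197, 159, 240], [170, 129, 244, 75, 214], [164, 265, 104, 118, 131],
    [65, 247, 152, 19, 97], [270, 83, 91, 3, 127], [195, 96, 44, 71, 201], [130, 126, 255, 182, 229],
    [138, 88, 41, 146, 68], [156, 267, 109, 181, 166], [217, 250, 153, 106, 47], [225, 54, 22, 18, 66],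
    [35, 175, 226, 162, 69], [172, 114, 198, 73, 136], [221, 133, 48, 105, 58], [185, 63, 37, 7, 82],
    [50, 259, 107, 173, 271], [103, 204, 30, 59, 51], [245, 112, 79, 108, 148], [154, 139, 45, 227, 77],
    [99, 117, 176, 29, 16], [236, 6, 12, 1, 169], [42, 167, 261, 9, 194], [92, 191, 248, 179, 155],
    [81, 119, 121, 163, 234]],
  [
    [0, 142, 143, 144, 145], [170, 129, 244, 75, 214], [270, 83, 91, 3, 127], [156, 267, 109, 181, 166],
    [221, 133, 48, 105, 58]],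
  [
    [0, 142, 143, 144, 145]]]

/-- A word of order 7. -/
def seven : List ℕ := [0, 1, 0, 0, 0, 0, 2, 0, 1, 2, 2, 1, 2, 0, 1, 0, 1, 0, 0, 0]

/-- A word of order 11. -/
def eleven : List ℕ := [1, 0, 0, 0, 1, 1, 1, 0, 2, 2, 2, 0, 0, 0, 2, 2, 0, 2]

end Cfsg.Agent.Lib.McLMult
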