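import Cfsg.Agent.Lib.McLMult.Cert
import Cfsg.Agent.Lib.McLMult.CertData
import Cfsg.Agent.Lib.McLMult.PairData

/-!
# Kernel checks for the multiplier of the McLaughlin group
-/

set_option autoImplicit false
set_option maxRecDepth 20000
set_option Elab.async false

namespace Cfsg.Agent.Lib.McLMult

open Cfsg.Agent.Lib.Schur.PcCollect (listVec maskVec)
open Cfsg.Agent.Lib.U43Mult (Xc scalC)
open Cfsg.Agent.Lib.U43Mult.Code (applyC oneC)

/-- A word applied to a vector of the modules. -/
def wvec (w : List ℕ) (v : ℕ) : ℕ := w.foldr (fun g x => applyC (Xc.getD g oneC) x) v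

/-- All letters are the first two. -/
def small (w : List ℕ) : Bool := w.all fun s => Nat.blt s 2

/-- The scalar power of the test vector. -/
def vA (a : ℕ) : ℕ := applyC (scalC a 0) 1

theorem vA_inj : ∀ a b c : Fin 3, applyC (scalC b.1 c.1) 1 = vA a.1 → b = a := by decide +kernel

theorem two_cert : two.certOk maskVec twoEqs twoCombos = true := by decide +kernel

theorem two_rels : relsOk two twoIx = true := by decide +kernel

theorem two_sep : sepOk two twoIx twoSep = true := by decide +kernel

theorem two_conjs : conjsOk two twoIx twoXs = true := by decide +kernel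

theorem five_cert : five.certOk (listVec 5) fiveEqs fiveCombos = true := by decide +kernel

theorem five_rels : relsOk five fiveIx = true := by decide +kernel

theorem five_sep : sepOk five fiveIx fiveSep = true := by decide +kernel

theorem five_conjs : conjsOk five fiveIx fiveXs = true := by decide +kernel

theorem seven_ok : primeOk seven 7 = true := by decide +kernel

theorem eleven_ok : primeOk eleven 11 = true := by decide +kernel

/-- The lifts of one element. -/
def liftOk (g : List ℕ) (pre : List ℕ) (ls : List (List ℕ)) : Bool :=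
  (List.range 275).all fun j => Nat.blt (pre.getD j 0) 275 && Nat.beq (imgW g (pre.getD j 0)) j &&
    small (ls.getD j []) && eqB (tws.getD j [] ++ ls.getD j []) (g ++ tws.getD (pre.getD j 0) [])

theorem witA_ok : liftOk witG witGi witA = true := by decide +kernel

theorem witB_ok : liftOk witH witHi witB = true := by decide +kernel

theorem wit_comm : eqB (witG ++ witH) (witH ++ witG) = true := by decide +kernel

theorem witZ_ok : ((List.range 275).all fun j => Nat.blt (witZ.getD j 0) 3 &&
    Nat.beq (wvec (witA.getD j [] ++ witB.getD (witGi.getD j 0) []) 1)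
      (wvec (witB.getD j [] ++ witA.getD (witHi.getD j 0) []) (vA (witZ.getD j 0)))) = true := by
  decide +kernel

theorem witZ_sum : (∑ j : Fin 275, ((witZ.getD j.1 0 : ℕ) : ZMod 3)) ≠ 0 := by decide +kernel

/-- The words of the fusion. -/
def fw (k : ℕ) : List ℕ := fusW.getD k []

theorem fus_ok : (((List.range 4).all fun k => small (fw k)) && Nat.blt fusA.1 3 && Nat.blt fusA.2 3 &&
    !Nat.beq fusA.1 fusA.2 && eqB (fw 0 ++ fw 1) (fw 1 ++ fw 0) && eqB (fw 2 ++ fw 3) (fw 3 ++ fw 2) &&
    eqB (fw 4 ++ fw 0) (fw 2 ++ fw 4) && eqB (fw 4 ++ fw 1) (fw 3 ++ fw 4) &&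
    Nat.beq (wvec (fw 0 ++ fw 1) 1) (wvec (fw 1 ++ fw 0) (vA fusA.1)) &&
    Nat.beq (wvec (fw 2 ++ fw 3) 1) (wvec (fw 3 ++ fw 2) (vA fusA.2))) = true := by decide +kernel

end Cfsg.Agent.Lib.McLMult
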