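import Cfsg.Agent.Lib.McLMult.Points
import Cfsg.Agent.Lib.U43Mult.Main

/-!
# The point stabiliser of the McLaughlin group and the cover of `PSU(4,3)`

The point stabiliser acts faithfully on 112 points, as the cover acts on the isotropic lines; this gives
a central extension of the point stabiliser by the kernel of the cover, and shows that an element is
determined by the images of five points.
-/

set_option autoImplicit false
set_option maxRecDepth 20000
set_option maxHeartbeats 800000

namespace Cfsg.Agent.Lib.McLMult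

open Cfsg Cfsg.Agent.Lib.Leech
open Cfsg.Agent.Lib.U43Mult (K rho kgen wK pr1 pairGen pairGen_mem sigma)
open Cfsg.Agent.Lib.LatticeUnitary.U4 (G0 x0 atomPerm side_gens side_steps side_chain side_check)
open Cfsg.Agent.Lib.Computation (getW permRep decodeP okPerm decodeP_apply Rep Level)

/-- The point of a line. -/
def io (j : ℕ) : ℕ := iota.getD j 0

theorem io_ok : ((List.range 112).all fun j => Nat.blt (io j) 275 &&
    Nat.beq (imgG 0 (io j)) (io (atomPerm 0 j)) && Nat.beq (imgG 1 (io j)) (io (atomPerm 1 j)) &&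
    Nat.blt (atomPerm 0 j) 112 && Nat.blt (atomPerm 1 j) 112) = true := by decide +kernel

theorem io_inj_ok : ((List.range 112).all fun j => (List.range 112).all fun k =>
    Nat.beq j k || !Nat.beq (io j) (io k)) = true := by decide +kernel

theorem fix_zero : (Nat.beq (imgG 0 0) 0 && Nat.beq (imgG 1 0) 0) = true := by decide +kernel

theorem base_ok : basePts = 0 :: side_chain.map (fun L => io L.base) := by decide +kernel

theorem io_spec {j : ℕ} (hj : j < 112) : io j < 275 ∧ ∀ g : Fin 2,
    imgG g.1 (io j) = io (atomPerm g j) ∧ atomPerm g j < 112 := by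
  have h := List.all_eq_true.1 io_ok j (List.mem_range.2 hj)
  simp only [Bool.and_eq_true, Nat.blt_eq, Nat.beq_eq] at h
  exact ⟨h.1.1.1.1, Fin.forall_fin_two.2 ⟨⟨h.1.1.1.2, h.1.2⟩, ⟨h.1.1.2, h.2⟩⟩⟩

/-- The point of a line, among the 275. -/
def ioF (j : Fin 112) : Fin 275 := ⟨io j, (io_spec j.2).1⟩

theorem ioF_injective : Function.Injective ioF := by
  intro a b h
  have h' := List.all_eq_true.1 (List.all_eq_true.1 io_inj_ok a.1 (List.mem_range.2 a.2)) b.1
    (List.mem_range.2 b.2)
  simp only [Bool.or_eq_true, Nat.beq_eq, Bool.not_eq_true'] at h'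
  rcases h' with e | e
  · exact Fin.ext e
  · rw [show io a.1 = io b.1 from congrArg Fin.val h] at e
    exact absurd e (by rw [Nat.beq_refl]; exact Bool.noConfusion)

/-- The point stabiliser, by its generators. -/
noncomputable abbrev U : Subgroup M := Subgroup.closure (Set.range fun g : Fin 2 => gM g.1)

theorem act_gM (g : ℕ) (i : Fin 275) : (act (gM g) i).1 = imgG g i.1 := by
  have h := act_wM [g] i
  rwa [show wM [g] = gM g by simp [wM]] at h

theorem mem_sub {u : M} (hu : u ∈ U) :
    act u 0 = 0 ∧ ∀ j, ∃ k, act u (ioF j) = ioF k := by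
  have : u ∈ Submonoid.closure (Set.range fun g : Fin 2 => gM g.1) := by
    rw [← Subgroup.closure_toSubmonoid_of_finite]; exact hu
  clear hu
  induction this using Submonoid.closure_induction with
  | mem x hx =>
    obtain ⟨g, rfl⟩ := hx
    refine ⟨Fin.ext ?_, fun j => ⟨⟨atomPerm g j, ((io_spec j.2).2 g).2⟩, Fin.ext ?_⟩⟩
    · have h := fix_zero
      simp only [Bool.and_eq_true, Nat.beq_eq] at h
      rw [act_gM]
      fin_cases g
      exacts [h.1, h.2]
    · rw [act_gM]
      exact ((io_spec j.2).2 g).1
  | one => exact ⟨act_one _, fun j => ⟨j, act_one _⟩⟩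
  | mul x y _ _ hx hy =>
    refine ⟨by rw [act_mul, hy.1, hx.1], fun j => ?_⟩
    obtain ⟨k, hk⟩ := hy.2 j
    obtain ⟨l, hl⟩ := hx.2 k
    exact ⟨l, by rw [act_mul, hk, hl]⟩

/-- The permutation of the lines. -/
noncomputable def side (u : U) (j : Fin 112) : Fin 112 := ((mem_sub u.2).2 j).choose

theorem side_spec (u : U) (j : Fin 112) : act u.1 (ioF j) = ioF (side u j) :=
  ((mem_sub u.2).2 j).choose_spec

theorem side_unique (u : U) {j k : Fin 112} (h : act u.1 (ioF j) = ioF k) : side u j = k :=
  ioF_injective ((side_spec u j).symm.trans h)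

/-- The action on the lines. -/
noncomputable def theta : U →* Equiv.Perm (Fin 112) :=
  have h1 : ∀ j, side 1 j = j := fun j => side_unique 1 (act_one _)
  have hm : ∀ a b j, side (a * b) j = side a (side b j) := fun a b j => side_unique _ (by
    rw [Subgroup.coe_mul, act_mul, side_spec b j, side_spec])
  { toFun := fun u =>
      { toFun := side u
        invFun := side u⁻¹
        left_inv := fun j => by rw [← hm, inv_mul_cancel, h1]
        right_inv := fun j => by rw [← hm, mul_inv_cancel, h1] }
    map_one' := Equiv.ext h1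
    map_mul' := fun a b => Equiv.ext (hm a b) }

/-- The permutation of a generator. -/
noncomputable def sidePerm (g : Fin 2) : Equiv.Perm (Fin 112) := decodeP 112 7 (side_gens.getD g.1 0)

theorem sidePerm_apply (g : Fin 2) (j : Fin 112) : (sidePerm g j).1 = atomPerm g j := by
  have hg : ∀ g : Fin 2, okPerm 112 7 (side_gens.getD g.1 0) = true := by decide +kernel
  rw [sidePerm, decodeP_apply (hg g)]
  rfl

/-- A generator of the point stabiliser. -/
noncomputable def gU (g : Fin 2) : U := ⟨gM g.1, Subgroup.subset_closure ⟨g, rfl⟩⟩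

theorem theta_gU (g : Fin 2) : theta (gU g) = sidePerm g :=
  Equiv.ext fun j => side_unique (gU g) (Fin.ext (by
    rw [show ((gU g : U) : M) = gM g.1 from rfl, act_gM]
    show imgG g.1 (io j.1) = io (sidePerm g j).1
    rw [sidePerm_apply]
    exact ((io_spec j.2).2 g).1))

theorem closure_gU : Subgroup.closure (Set.range gU) = ⊤ := by
  apply Subgroup.map_injective U.subtype_injective
  rw [MonoidHom.map_closure, ← Set.range_comp, ← MonoidHom.range_eq_map, Subgroup.range_subtype]
  rfl

theorem range_theta : theta.range = Subgroup.closure (Set.range sidePerm) := by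
  rw [MonoidHom.range_eq_map, ← closure_gU, MonoidHom.map_closure, ← Set.range_comp]
  exact congrArg _ (congrArg Set.range (funext theta_gU))

theorem closure_sidePerm : Subgroup.closure (Set.range sidePerm) =
    (permRep 112 7 (by decide)).grp side_chain := by
  rw [← (permRep 112 7 (by decide)).closure_eq_grp side_check]
  refine congrArg _ (Set.ext fun p => ⟨?_, ?_⟩)
  · rintro ⟨g, rfl⟩
    refine ⟨side_gens.getD g.1 0, ?_, rfl⟩
    show _ ∈ side_gens
    rw [List.getD_eq_getElem _ _ (show g.1 < side_gens.length from g.2)]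
    exact List.getElem_mem _
  · rintro ⟨c, hc, rfl⟩
    obtain ⟨i, hi, rfl⟩ := List.mem_iff_getElem.1 hc
    exact ⟨⟨i, hi⟩, by rw [sidePerm, List.getD_eq_getElem]⟩

theorem card_closure_side : Nat.card (Subgroup.closure (Set.range sidePerm)) = 3265920 := by
  rw [closure_sidePerm, (permRep 112 7 (by decide)).card_grp
    ((permRep 112 7 (by decide)).checkChain_of_checkClosure side_check)]
  decide +kernel

theorem pt_zero : pt 0 = x0 := by
  rw [pt, tM, show tws.getD (0 : Fin 275).1 [] = [] from rfl, show wM [] = 1 from rfl, Subgroup.coe_one,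
    one_smul]

theorem U_eq : U = G0.subgroupOf M ∧ Function.Injective theta ∧ Nat.card U = 3265920 := by
  have hle : U ≤ G0.subgroupOf M := fun u hu => by
    have h := act_spec u 0
    rw [(mem_sub hu).1, pt_zero] at h
    exact ⟨u.2, h⟩
  have hG : Nat.card (G0.subgroupOf M) = 3265920 :=
    (Nat.card_congr (Subgroup.subgroupOfEquivOfLe (inf_le_left : G0 ≤ M)).toEquiv).trans
      LatticeUnitary.U4.card_G0
  have h1 : Nat.card U ≤ 3265920 := hG ▸ Subgroup.card_le_of_le hle
  have h2 : 3265920 ≤ Nat.card U := by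
    rw [← card_closure_side, ← range_theta]
    exact Nat.card_le_card_of_surjective _ theta.rangeRestrict_surjective
  have h3 : Nat.card U = 3265920 := le_antisymm h1 h2
  refine ⟨Subgroup.eq_of_le_of_card_ge hle (by omega), ?_, h3⟩
  have hb : Function.Bijective theta.rangeRestrict :=
    (Nat.bijective_iff_surjective_and_card _).2 ⟨theta.rangeRestrict_surjective, by
      rw [h3, range_theta, card_closure_side]⟩
  exact fun a b h => hb.1 (Subtype.ext h)

theorem mem_U_iff {g : M} : g ∈ U ↔ act g 0 = 0 := by
  refine ⟨fun h => (mem_sub h).1, fun h => ?_⟩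
  rw [U_eq.1]
  have h' := act_spec g 0
  rw [h, pt_zero] at h'
  exact ⟨g.2, h'⟩

theorem index_U : U.index = 275 := by
  have h := U.card_mul_index
  rw [U_eq.2.2, card_M] at h
  omega

theorem eq_one_of_chain : ∀ (c : List (Level ℕ)), (permRep 112 7 (by decide)).checkChain c = true →
    ∀ p ∈ (permRep 112 7 (by decide)).grp c, (∀ L ∈ c, p (Fin.ofNat 112 L.base) = Fin.ofNat 112 L.base) →
      p = 1
  | [], _, p, hp, _ => by
    rw [(permRep 112 7 (by decide)).grp_nil, Subgroup.mem_bot] at hp
    exact hp
  | L :: c, hc, p, hp, hfix =>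
    eq_one_of_chain c ((permRep 112 7 (by decide)).checkChain_tail hc) p
      (((permRep 112 7 (by decide)).mem_grp_tail_iff hc).2 ⟨hp, hfix L List.mem_cons_self⟩)
      fun L' hL' => hfix L' (List.mem_cons_of_mem _ hL')

theorem base_lt : (basePts.all fun b => Nat.blt b 275) = true := by decide +kernel

theorem bases_lt : (side_chain.all fun L => Nat.blt L.base 112) = true := by decide +kernel

/-- An element fixing the base is trivial. -/
theorem eq_one_of_base {g : M} (h : ∀ i : Fin 275, i.1 ∈ basePts → act g i = i) : g = 1 := by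
  have hU : g ∈ U := mem_U_iff.2 (h 0 (by rw [base_ok]; exact List.mem_cons_self))
  have hmem : theta ⟨g, hU⟩ ∈ (permRep 112 7 (by decide)).grp side_chain := by
    rw [← closure_sidePerm, ← range_theta]; exact ⟨_, rfl⟩
  have hone := eq_one_of_chain side_chain
    ((permRep 112 7 (by decide)).checkChain_of_checkClosure side_check) _ hmem fun L hL => by
      have hlt : L.base < 112 := Nat.le_of_ble_eq_true (List.all_eq_true.1 bases_lt L hL)
      rw [show Fin.ofNat 112 L.base = (⟨L.base, hlt⟩ : Fin 112) from Fin.ext (Nat.mod_eq_of_lt hlt)]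
      exact side_unique ⟨g, hU⟩ (h _ (by
        rw [base_ok]
        exact List.mem_cons_of_mem _ (List.mem_map.2 ⟨L, hL, rfl⟩)))
  exact congrArg Subtype.val (U_eq.2.1 (hone.trans (map_one theta).symm) : (⟨g, hU⟩ : U) = 1)

/-- Two words agreeing on the base. -/
def eqB (u w : List ℕ) : Bool := basePts.all fun b => Nat.beq (imgW u b) (imgW w b)

theorem wM_eq {u w : List ℕ} (h : eqB u w = true) : wM u = wM w := by
  rw [← inv_mul_eq_one]
  refine eq_one_of_base fun i hi => ?_
  have h' : imgW u i.1 = imgW w i.1 := Nat.eq_of_beq_eq_true (List.all_eq_true.1 h i.1 hi)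
  have e : act (wM u) i = act (wM w) i := Fin.ext (by rw [act_wM, act_wM, h'])
  rw [act_mul, ← e, ← act_mul, inv_mul_cancel, act_one]

theorem wM_ne {u : List ℕ} (h : eqB u [] = false) : wM u ≠ 1 := by
  intro e
  obtain ⟨b, hb, hne⟩ := List.all_eq_false.1 h
  have hlt : b < 275 := Nat.le_of_ble_eq_true (List.all_eq_true.1 base_lt b hb)
  refine hne ((Nat.beq_eq.symm ▸ ?_) : Nat.beq (imgW u b) (imgW [] b) = true)
  have := act_wM u ⟨b, hlt⟩
  rw [e, act_one] at this
  exact this.symm

/-! ### The cover over the point stabiliser -/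

theorem kgen_eq (g : Fin 2) : kgen g.1 = ⟨pairGen g, pairGen_mem g⟩ := by
  rw [kgen, dif_pos g.2]

theorem rho_kgen (g : Fin 2) : rho (kgen g.1) = sidePerm g :=
  Equiv.ext fun j => Fin.ext (by rw [kgen_eq, U43Mult.rho_gen, sidePerm_apply])

theorem range_rho : rho.range = theta.range := by
  have htop : Subgroup.closure (Set.range fun g : Fin 2 => kgen g.1) = (⊤ : Subgroup K) := by
    apply Subgroup.map_injective K.subtype_injective
    rw [MonoidHom.map_closure, ← Set.range_comp, ← MonoidHom.range_eq_map, Subgroup.range_subtype]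
    exact congrArg _ (congrArg Set.range (funext fun g => congrArg Subtype.val (kgen_eq g)))
  rw [range_theta, MonoidHom.range_eq_map, ← htop, MonoidHom.map_closure, ← Set.range_comp]
  exact congrArg _ (congrArg Set.range (funext rho_kgen))

/-- The cover mapped onto the point stabiliser. -/
noncomputable def pi : K →* M :=
  U.subtype.comp ((MonoidHom.ofInjective U_eq.2.1).symm.toMonoidHom.comp
    ((MulEquiv.subgroupCongr range_rho).toMonoidHom.comp rho.rangeRestrict))

theorem pi_mem (x : K) : pi x ∈ U := Subtype.prop _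

theorem theta_pi (x : K) : theta ⟨pi x, pi_mem x⟩ = rho x := by
  have h := (MonoidHom.ofInjective U_eq.2.1).apply_symm_apply
    (MulEquiv.subgroupCongr range_rho (rho.rangeRestrict x))
  exact congrArg Subtype.val h

theorem pi_eq {x : K} {u : U} (h : theta u = rho x) : pi x = u :=
  congrArg Subtype.val (U_eq.2.1 ((theta_pi x).trans h.symm))

theorem range_pi : pi.range = U := by
  refine le_antisymm (by rintro _ ⟨x, rfl⟩; exact pi_mem x) fun u hu => ?_
  obtain ⟨x, hx⟩ := (range_rho ▸ ⟨⟨u, hu⟩, rfl⟩ : theta ⟨u, hu⟩ ∈ rho.range)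
  exact ⟨x, pi_eq (u := ⟨u, hu⟩) hx.symm⟩

theorem pi_wK : ∀ w : List ℕ, (w.all fun s => Nat.blt s 2) = true → pi (wK w) = wM w
  | [], _ => map_one pi
  | s :: w, h => by
    simp only [List.all_cons, Bool.and_eq_true, Nat.blt_eq] at h
    rw [U43Mult.wK_cons, map_mul, wM_cons, pi_wK w h.2,
      pi_eq (x := kgen s) (u := gU ⟨s, h.1⟩) ((theta_gU _).trans (rho_kgen ⟨s, h.1⟩).symm)]
    rfl

theorem ker_pi : pi.ker = sigma.ker := by
  refine le_antisymm (fun x hx => ?_) fun x hx => ?_
  · have h : rho x = 1 := by
      rw [← theta_pi, show (⟨pi x, pi_mem x⟩ : U) = 1 from Subtype.ext hx, map_one]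
    exact U43Mult.mem_ker_sigma.2 (U43Mult.pr2_central_of_act fun k => Equiv.congr_fun h k)
  · exact pi_eq (u := 1) ((map_one theta).trans (MonoidHom.mem_ker.1 (U43Mult.ker_sigma_le_rho hx)).symm)

theorem ker_pi_central : pi.ker ≤ Subgroup.center K := ker_pi.symm ▸ U43Mult.ker_sigma_central

theorem card_ker_pi : Nat.card pi.ker = 36 := by
  have h := sigma.ker.card_mul_index
  rw [Subgroup.index_ker, MonoidHom.range_eq_top.2 U43Mult.sigma_surjective, Subgroup.card_top,
    U43Mult.card_psu, U43Mult.card_K] at h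
  rw [ker_pi]
  exact Nat.eq_of_mul_eq_mul_right (by norm_num) h

end Cfsg.Agent.Lib.McLMult
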