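import Cfsg.Prelude.Def_KGroupFacts
import Mathlib.GroupTheory.SemidirectProduct
import Mathlib.GroupTheory.QuotientGroup.Basic
import Mathlib.GroupTheory.SpecificGroups.Cyclic
import Mathlib.Algebra.BigOperators.Group.Finset.Basic

/-!
# The transfer of a central extension of a subgroup

A central extension of the stabiliser of a point gives one of the whole group inside the semidirect
product of the maps from the points to the extension; a character of the kernel pushes it to an extension
by the values of the character, which is a stem extension as soon as two commuting elements have lifts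
with a commutator of nontrivial value.
-/

set_option autoImplicit false

namespace Cfsg.Agent.Lib.McLMult.Transfer

open scoped commutatorElement

variable {G K ι : Type} [Group G] [Group K] (perm : G →* Equiv.Perm ι) (pi : K →* G) (t : ι → G)

/-- The permutation of the maps. -/
def twist : G →* MulAut (ι → K) where
  toFun g :=
    { toFun := fun a j => a ((perm g)⁻¹ j)
      invFun := fun a j => a (perm g j)
      left_inv := fun a => funext fun j => by simp
      right_inv := fun a => funext fun j => by simp
      map_mul' := fun _ _ => rfl }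
  map_one' := by
    refine MulEquiv.ext fun a => funext fun j => ?_
    simp
  map_mul' g h := by
    refine MulEquiv.ext fun a => funext fun j => ?_
    simp [mul_inv_rev]

theorem twist_apply (g : G) (a : ι → K) (j : ι) : twist perm g a j = a ((perm g)⁻¹ j) := rfl

/-- Liftable pairs. -/
def Lifts (g : G) (a : ι → K) : Prop := ∀ j, t j * pi (a j) = g * t ((perm g)⁻¹ j)

theorem lifts_one : Lifts perm pi t 1 1 := fun j => by simp

theorem Lifts.mul {g h : G} {a b : ι → K} (ha : Lifts perm pi t g a) (hb : Lifts perm pi t h b) :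
    Lifts perm pi t (g * h) (a * twist perm g b) := fun j => by
  rw [Pi.mul_apply, map_mul, ← mul_assoc, ha j, twist_apply, mul_assoc, hb]
  simp [mul_assoc, mul_inv_rev]

/-- The extension. -/
def ext : Subgroup (SemidirectProduct (ι → K) G (twist perm)) where
  carrier := {x | Lifts perm pi t x.right x.left}
  one_mem' := lifts_one perm pi t
  mul_mem' := fun {x y} hx hy => by
    show Lifts perm pi t (x * y).right (x * y).left
    rw [SemidirectProduct.mul_right, SemidirectProduct.mul_left]
    exact Lifts.mul perm pi t hx hy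
  inv_mem' := fun {x} hx j => by
    show t j * pi (x⁻¹.left j) = x⁻¹.right * t ((perm x⁻¹.right)⁻¹ j)
    rw [SemidirectProduct.inv_right, SemidirectProduct.inv_left, twist_apply, map_inv, inv_inv, Pi.inv_apply,
      map_inv]
    have h := hx (perm x.right j)
    rw [show (perm x.right)⁻¹ (perm x.right j) = j by simp] at h
    rw [mul_inv_eq_iff_eq_mul, mul_assoc, h, inv_mul_cancel_left]

/-- The map onto the group. -/
def proj : ext perm pi t →* G := SemidirectProduct.rightHom.comp (ext perm pi t).subtype

theorem proj_apply (x : ext perm pi t) : proj perm pi t x = x.1.right := rfl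

theorem mem_ker_proj (x : ext perm pi t) (hx : x ∈ (proj perm pi t).ker) (j : ι) :
    x.1.left j ∈ pi.ker := by
  have h := x.2 j
  rw [show x.1.right = 1 from hx, map_one, inv_one, one_mul] at h
  exact mul_eq_left.1 h

variable {A : Type} [CommGroup A] (eps : pi.ker →* A) [Fintype ι]

/-- The value of the character on a kernel element. -/
noncomputable def total : (proj perm pi t).ker →* A where
  toFun x := ∏ j, eps ⟨x.1.1.left j, mem_ker_proj perm pi t x.1 x.2 j⟩
  map_one' := Finset.prod_eq_one fun j _ => map_one eps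
  map_mul' x y := by
    rw [← Finset.prod_mul_distrib]
    refine Finset.prod_congr rfl fun j _ => ?_
    rw [← map_mul]
    refine congrArg eps (Subtype.ext ?_)
    show (x.1.1 * y.1.1).left j = x.1.1.left j * y.1.1.left j
    rw [SemidirectProduct.mul_left, show x.1.1.right = 1 from x.2, map_one]
    rfl

theorem conj_mem (hc : pi.ker ≤ Subgroup.center K) (g x : ext perm pi t) (hx : x ∈ (proj perm pi t).ker)
    (hg : g * x * g⁻¹ ∈ (proj perm pi t).ker) :
    total perm pi t eps ⟨g * x * g⁻¹, hg⟩ = total perm pi t eps ⟨x, hx⟩ := by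
  show ∏ j, eps ⟨(g * x * g⁻¹).1.left j, _⟩ = ∏ j, eps ⟨x.1.left j, _⟩
  refine Fintype.prod_equiv (perm g.1.right)⁻¹ _ _ fun j => congrArg eps (Subtype.ext ?_)
  show (g.1 * x.1 * g.1⁻¹).left j = x.1.left ((perm g.1.right)⁻¹ j)
  have hr : x.1.right = 1 := hx
  simp only [SemidirectProduct.mul_left, SemidirectProduct.mul_right, SemidirectProduct.inv_left, hr, mul_one,
    map_inv, Pi.mul_apply, twist_apply, MulAut.apply_inv_self]
  rw [Pi.inv_apply, Subgroup.mem_center_iff.1 (hc (mem_ker_proj perm pi t x hx _)) (g.1.left j), mul_assoc,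
    mul_inv_cancel, mul_one]

/-- The kernel of the value. -/
noncomputable def bad : Subgroup (ext perm pi t) := (total perm pi t eps).ker.map (proj perm pi t).ker.subtype

theorem mem_bad {x : ext perm pi t} :
    x ∈ bad perm pi t eps ↔ ∃ h : x ∈ (proj perm pi t).ker, total perm pi t eps ⟨x, h⟩ = 1 := by
  constructor
  · rintro ⟨⟨y, hy⟩, he, rfl⟩; exact ⟨hy, he⟩
  · rintro ⟨h, he⟩; exact ⟨⟨x, h⟩, he, rfl⟩

theorem bad_normal (hc : pi.ker ≤ Subgroup.center K) : (bad perm pi t eps).Normal :=
  ⟨fun x hx g => by
    obtain ⟨h, he⟩ := (mem_bad perm pi t eps).1 hx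
    exact (mem_bad perm pi t eps).2 ⟨(MonoidHom.normal_ker _).conj_mem x h g,
      (conj_mem perm pi t eps hc g x h _).trans he⟩⟩

/-- A stem extension by a group of prime order. -/
theorem exists_stem [Finite G] [Finite K] (hA : (Nat.card A).Prime) (hc : pi.ker ≤ Subgroup.center K)
    (hlift : ∀ g j, ∃ k, t j * pi k = g * t ((perm g)⁻¹ j))
    {g h : G} (hgh : g * h = h * g) {a b : ι → K} (ha : Lifts perm pi t g a) (hb : Lifts perm pi t h b)
    (z : ι → pi.ker)
    (hz : ∀ j, a j * b ((perm g)⁻¹ j) = (z j : K) * (b j * a ((perm h)⁻¹ j)))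
    (hne : ∏ j, eps (z j) ≠ 1) :
    ∃ (Γ : Type) (_ : Group Γ) (_ : Finite Γ) (σ : Γ →* G),
      Cfsg.IsStemExtension σ ∧ Nonempty (σ.ker ≃* A) := by
  classical
  haveI : Finite A := Nat.finite_of_card_ne_zero hA.ne_zero
  haveI : Finite (SemidirectProduct (ι → K) G (twist perm)) :=
    Finite.of_equiv _ SemidirectProduct.equivProd.symm
  haveI := bad_normal perm pi t eps hc
  have hle : bad perm pi t eps ≤ (proj perm pi t).ker := fun x hx => ((mem_bad perm pi t eps).1 hx).1
  let σ := QuotientGroup.lift (bad perm pi t eps) (proj perm pi t) hle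
  let x : ext perm pi t := ⟨⟨a, g⟩, ha⟩
  let y : ext perm pi t := ⟨⟨b, h⟩, hb⟩
  have hw : x * y * (y * x)⁻¹ ∈ (proj perm pi t).ker := by
    rw [MonoidHom.mem_ker, map_mul, map_inv, map_mul, map_mul, mul_inv_eq_one]
    exact hgh
  have htot : total perm pi t eps ⟨x * y * (y * x)⁻¹, hw⟩ = ∏ j, eps (z j) := by
    show ∏ j, eps ⟨(x * y * (y * x)⁻¹).1.left j, _⟩ = _
    refine Finset.prod_congr rfl fun j _ => congrArg eps (Subtype.ext ?_)
    have e : (x * y * (y * x)⁻¹).1 = ⟨(fun j => (z j : K)), 1⟩ := by
      rw [Subgroup.coe_mul, Subgroup.coe_inv, mul_inv_eq_iff_eq_mul, Subgroup.coe_mul, Subgroup.coe_mul]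
      refine SemidirectProduct.ext (funext fun j => ?_) ?_
      · rw [SemidirectProduct.mul_left, SemidirectProduct.mul_left, SemidirectProduct.mul_left, map_one]
        simp only [Pi.mul_apply, MulAut.one_apply, twist_apply]
        exact hz j
      · rw [SemidirectProduct.mul_right, SemidirectProduct.mul_right, SemidirectProduct.mul_right, one_mul]
        exact hgh
    exact congrArg (fun v : SemidirectProduct (ι → K) G (twist perm) => v.left j) e
  have hσsurj : Function.Surjective σ := fun g' => by
    choose k hk using hlift g'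
    exact ⟨QuotientGroup.mk ⟨⟨k, g'⟩, hk⟩, rfl⟩
  let tot' : σ.ker →* A :=
    { toFun := fun q => Quotient.liftOn' q.1 (fun e =>
          if he : e ∈ (proj perm pi t).ker then total perm pi t eps ⟨e, he⟩ else 1) fun e e' hee => by
        rw [QuotientGroup.leftRel_apply] at hee
        obtain ⟨hk, h1⟩ := (mem_bad perm pi t eps).1 hee
        by_cases he : e ∈ (proj perm pi t).ker
        · have he' : e' ∈ (proj perm pi t).ker := by simpa using mul_mem he hk
          rw [dif_pos he, dif_pos he']
          rw [show (⟨e', he'⟩ : (proj perm pi t).ker) = ⟨e, he⟩ * ⟨e⁻¹ * e', hk⟩ from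
            Subtype.ext (mul_inv_cancel_left e e').symm, map_mul, h1, mul_one]
        · have he' : e' ∉ (proj perm pi t).ker := fun he' => he (by
            have := mul_mem he' (inv_mem hk)
            simpa using this)
          rw [dif_neg he, dif_neg he']
      map_one' := by
        show (if he : (1 : ext perm pi t) ∈ _ then total perm pi t eps ⟨1, he⟩ else 1) = 1
        rw [dif_pos (one_mem _)]
        exact map_one _
      map_mul' := by
        rintro ⟨q, hq⟩ ⟨r, hr⟩
        induction q using QuotientGroup.induction_on with | _ e => ?_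
        induction r using QuotientGroup.induction_on with | _ e' => ?_
        show (if he : e * e' ∈ _ then _ else 1) = (if he : e ∈ _ then _ else 1) * (if he : e' ∈ _ then _ else 1)
        rw [dif_pos (show e ∈ (proj perm pi t).ker from hq),
          dif_pos (show e' ∈ (proj perm pi t).ker from hr), dif_pos (mul_mem (show e ∈ _ from hq)
            (show e' ∈ (proj perm pi t).ker from hr))]
        exact map_mul (total perm pi t eps) ⟨e, hq⟩ ⟨e', hr⟩ }
  have htot' : ∀ (e : ext perm pi t) (he : e ∈ (proj perm pi t).ker),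
      tot' ⟨QuotientGroup.mk e, he⟩ = total perm pi t eps ⟨e, he⟩ := fun e he => by
    show (if he : e ∈ (proj perm pi t).ker then _ else 1) = _
    exact dif_pos he
  have hinj : Function.Injective tot' := by
    rw [← MonoidHom.ker_eq_bot_iff, eq_bot_iff]
    rintro ⟨q, hq⟩ h1
    induction q using QuotientGroup.induction_on with | _ e => ?_
    rw [Subgroup.mem_bot, Subtype.ext_iff]
    exact (QuotientGroup.eq_one_iff e).2 ((mem_bad perm pi t eps).2 ⟨hq, (htot' e hq).symm.trans h1⟩)
  let w : σ.ker := ⟨QuotientGroup.mk (x * y * (y * x)⁻¹), hw⟩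
  have hwne : tot' w ≠ 1 := by rw [htot', htot]; exact hne
  haveI := Fact.mk hA
  have hgen : ∀ u : A, u ∈ Subgroup.zpowers (tot' w) := fun u => mem_zpowers_of_prime_card rfl hwne
  have hsurj : Function.Surjective tot' := fun u => by
    obtain ⟨n, hn⟩ := hgen u
    exact ⟨w ^ n, by rw [map_zpow]; exact hn⟩
  have hcomm : w.1 ∈ commutator (ext perm pi t ⧸ bad perm pi t eps) := by
    show QuotientGroup.mk (x * y * (y * x)⁻¹) ∈ _
    rw [show x * y * (y * x)⁻¹ = ⁅x, y⁆ by rw [commutatorElement_def, mul_inv_rev, mul_assoc, mul_assoc, mul_assoc],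
      ← QuotientGroup.mk'_apply, map_commutatorElement]
    exact Subgroup.commutator_mem_commutator (Subgroup.mem_top _) (Subgroup.mem_top _)
  refine ⟨_, inferInstance, inferInstance, σ, ⟨hσsurj, ?_, ?_⟩, ⟨MulEquiv.ofBijective tot' ⟨hinj, hsurj⟩⟩⟩
  · intro q hq
    rw [Subgroup.mem_center_iff]
    intro r
    have hk : r * q * r⁻¹ ∈ σ.ker := (MonoidHom.normal_ker σ).conj_mem q hq r
    have e : (⟨r * q * r⁻¹, hk⟩ : σ.ker) = ⟨q, hq⟩ := by
      apply hinj
      induction q using QuotientGroup.induction_on with | _ e => ?_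
      induction r using QuotientGroup.induction_on with | _ e' => ?_
      exact ((htot' (e' * e * e'⁻¹) hk).trans (conj_mem perm pi t eps hc e' e hq hk)).trans (htot' e hq).symm
    exact mul_inv_eq_iff_eq_mul.1 (congrArg Subtype.val e)
  · intro q hq
    obtain ⟨n, hn⟩ := hgen (tot' ⟨q, hq⟩)
    have : (⟨q, hq⟩ : σ.ker) = w ^ n := hinj (by rw [map_zpow]; exact hn.symm)
    rw [show q = ((w ^ n : σ.ker) : _) from congrArg Subtype.val this, Subgroup.coe_zpow]
    exact zpow_mem hcomm n

end Cfsg.Agent.Lib.McLMult.Transfer
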