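import Cfsg.Agent.Lib.McLMult.Checks
import Cfsg.Agent.Lib.McLMult.Transfer
import Cfsg.Agent.Lib.Multiplier.Product

/-!
# The Schur multiplier of the McLaughlin group

The transfer of the cover of the point stabiliser gives a stem extension by three elements; in any stem
extension the kernel is an image of the kernel of that cover, kills all but the scalars of the two
modules, and the fusion of two commuting pairs leaves at most three.
-/

set_option autoImplicit false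
set_option maxRecDepth 20000
set_option maxHeartbeats 800000

namespace Cfsg.Agent.Lib.McLMult

open Cfsg
open Cfsg.Agent.Lib.U43Mult (K wK pr1 pr2 sigma sU scal scalC has_sU has_wK Xc has_kgen SU4)
open Cfsg.Agent.Lib.U43Mult.Code (Has Mat GL24 toVec applyC oneC toVec_inj ok_spec applyC_lt)
open scoped commutatorElement

attribute [local irreducible] applyC scalC

theorem pr1_wvec : ∀ (w : List ℕ) (v : ℕ), (pr1 (wK w) : Mat).mulVec (toVec v) = toVec (wvec w v)
  | [], v => by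
    rw [show wK [] = 1 from rfl, map_one, Units.val_one, Matrix.one_mulVec]
    rfl
  | g :: w, v => by
    rw [U43Mult.wK_cons, map_mul, Units.val_mul, ← Matrix.mulVec_mulVec, pr1_wvec w v, (has_kgen g).mulVec]
    rfl

attribute [local irreducible] pi wK wM imgW eqB fw wvec act sU U43Mult.omU U43Mult.genX U43Mult.Code.mulC toVec vA

theorem mem_scal {x : K} (hx : x ∈ pi.ker) : pr1 x ∈ scal.range := U43Mult.pr1_mem_scal (ker_pi ▸ hx)

/-- The first scalar of a member of the kernel. -/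
noncomputable def eps : pi.ker →* Multiplicative (ZMod 3) :=
  (AddMonoidHom.fst (ZMod 3) (ZMod 3)).toMultiplicative.comp
    ((MonoidHom.ofInjective U43Mult.scal_injective).symm.toMonoidHom.comp
      ((pr1.comp pi.ker.subtype).codRestrict scal.range fun x => mem_scal x.2))

theorem eps_eq (z : pi.ker) {a : ℕ} (ha : a < 3)
    (h : (pr1 z.1 : Mat).mulVec (toVec 1) = toVec (vA a)) :
    eps z = Multiplicative.ofAdd ((a : ℕ) : ZMod 3) := by
  set w := (MonoidHom.ofInjective U43Mult.scal_injective).symm ⟨pr1 z.1, mem_scal z.2⟩ with hw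
  have e : scal w = pr1 z.1 :=
    congrArg Subtype.val ((MonoidHom.ofInjective U43Mult.scal_injective).apply_symm_apply _)
  have hc := has_sU w.toAdd.1.val w.toAdd.2.val
  rw [← e, show scal w = sU w.toAdd.1.val w.toAdd.2.val from rfl, hc.mulVec] at h
  have hb := vA_inj ⟨a, ha⟩ ⟨_, ZMod.val_lt w.toAdd.1⟩ ⟨_, ZMod.val_lt w.toAdd.2⟩
    (toVec_inj (applyC_lt _ _ (ok_spec hc.1).2)
      (show vA a < 2 ^ 24 by rw [vA]; exact applyC_lt _ _ (ok_spec (has_sU a 0).1).2) h)
  show Multiplicative.ofAdd w.toAdd.1 = _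
  have hv : w.toAdd.1.val = a := congrArg Fin.val hb
  rw [← hv, ZMod.natCast_zmod_val]

attribute [local irreducible] eps

theorem eq_of_wvec {z : pi.ker} {u v : List ℕ} (hz : wK u = (z : K) * wK v) {a : ℕ}
    (h : Nat.beq (wvec u 1) (wvec v (vA a)) = true) :
    (pr1 z.1 : Mat).mulVec (toVec 1) = toVec (vA a) := by
  have hcomm : wK u = wK v * (z : K) := hz.trans (Subgroup.mem_center_iff.1 (ker_pi_central z.2) _).symm
  have h1 := pr1_wvec u 1
  rw [hcomm, map_mul, Units.val_mul, ← Matrix.mulVec_mulVec, Nat.eq_of_beq_eq_true h,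
    ← pr1_wvec v (vA a)] at h1
  have h2 := congrArg ((↑(pr1 (wK v))⁻¹ : Mat).mulVec) h1
  rwa [Matrix.mulVec_mulVec, Units.inv_mul, Matrix.one_mulVec, Matrix.mulVec_mulVec, Units.inv_mul,
    Matrix.one_mulVec] at h2

/-! ### The lower bound -/

theorem perm_inv_apply {w : List ℕ} {j : Fin 275} {k : ℕ} (hk : k < 275) (h : imgW w k = j.1) :
    (perm (wM w))⁻¹ j = ⟨k, hk⟩ := by
  rw [Equiv.Perm.inv_eq_iff_eq]
  exact Fin.ext ((act_wM w ⟨k, hk⟩).trans h).symm

theorem lift_spec {g : List ℕ} {pre : List ℕ} {ls : List (List ℕ)} (h : liftOk g pre ls = true) :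
    Transfer.Lifts perm pi tM (wM g) (fun j => wK (ls.getD j.1 [])) ∧
      ∀ j : Fin 275, ((perm (wM g))⁻¹ j).1 = pre.getD j.1 0 := by
  simp only [liftOk, List.all_eq_true, List.mem_range, Bool.and_eq_true, Nat.blt_eq, Nat.beq_eq] at h
  have hp : ∀ j : Fin 275, (perm (wM g))⁻¹ j = ⟨pre.getD j.1 0, (h j.1 j.2).1.1.1⟩ := fun j =>
    perm_inv_apply _ (h j.1 j.2).1.1.2
  refine ⟨fun j => ?_, fun j => congrArg Fin.val (hp j)⟩
  rw [pi_wK _ (h j.1 j.2).1.2, hp j, tM, tM, ← wM_append, ← wM_append]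
  exact wM_eq (h j.1 j.2).2

theorem lifts_all (g : M) (j : Fin 275) : ∃ k, tM j * pi k = g * tM ((perm g)⁻¹ j) := by
  have ht : ∀ i : Fin 275, act (tM i) 0 = i := fun i => by
    apply pt_injective
    rw [← act_spec, pt_zero]
    rfl
  have hm : (tM j)⁻¹ * (g * tM ((perm g)⁻¹ j)) ∈ pi.range := by
    rw [range_pi, mem_U_iff, act_mul, act_mul, ht,
      show act g ((perm g)⁻¹ j) = j from (perm g).apply_symm_apply j]
    have e := act_mul (tM j)⁻¹ (tM j) 0
    rw [inv_mul_cancel, act_one, ht] at e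
    exact e.symm
  obtain ⟨k, hk⟩ := hm
  exact ⟨k, by rw [hk, mul_inv_cancel_left]⟩

theorem exists_three : ∃ (Γ : Type) (_ : Group Γ) (_ : Finite Γ) (σ : Γ →* M),
    Cfsg.IsStemExtension σ ∧ Nonempty (σ.ker ≃* Multiplicative (ZMod 3)) := by
  have : Finite K := inferInstance
  obtain ⟨hA, hA'⟩ := lift_spec witA_ok
  obtain ⟨hB, hB'⟩ := lift_spec witB_ok
  set a : Fin 275 → K := fun j => wK (witA.getD j.1 [])
  set b : Fin 275 → K := fun j => wK (witB.getD j.1 [])
  have hgh : wM witG * wM witH = wM witH * wM witG := by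
    rw [← wM_append, ← wM_append]; exact wM_eq wit_comm
  have hmem : ∀ j, a j * b ((perm (wM witG))⁻¹ j) * (b j * a ((perm (wM witH))⁻¹ j))⁻¹ ∈ pi.ker := by
    intro j
    have e1 := (hA.mul perm pi tM hB) j
    have e2 := (hB.mul perm pi tM hA) j
    rw [← hgh] at e2
    rw [MonoidHom.mem_ker, map_mul, map_inv, mul_inv_eq_one]
    exact mul_left_cancel (e1.trans e2.symm)
  let z : Fin 275 → pi.ker := fun j => ⟨_, hmem j⟩
  have hz : ∀ j, a j * b ((perm (wM witG))⁻¹ j) = (z j : K) * (b j * a ((perm (wM witH))⁻¹ j)) :=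
    fun j => (inv_mul_cancel_right _ _).symm
  refine Transfer.exists_stem perm pi tM eps ?_ ker_pi_central lifts_all hgh hA hB z hz ?_
  · rw [Nat.card_congr Multiplicative.toAdd, Nat.card_zmod]; norm_num
  · have hval : ∀ j : Fin 275, eps (z j) = Multiplicative.ofAdd ((witZ.getD j.1 0 : ℕ) : ZMod 3) := by
      intro j
      have h := List.all_eq_true.1 witZ_ok j.1 (List.mem_range.2 j.2)
      simp only [Bool.and_eq_true, Nat.blt_eq] at h
      refine eps_eq _ h.1 (eq_of_wvec ?_ h.2)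
      rw [U43Mult.wK_append, U43Mult.wK_append, ← hA', ← hB']
      exact hz j
    rw [Finset.prod_congr rfl fun j _ => hval j, ← ofAdd_sum]
    exact fun e => witZ_sum (Multiplicative.ofAdd.injective e)

/-! ### The upper bound -/

theorem killed (p : ℕ) (hp : p.Prime) (h3 : p ≠ 3) (hd : p ∣ Nat.card M) :
    ∃ S : Subgroup M, ¬ p ∣ S.index ∧ Schur.Fusion.KillsPart p S := by
  rw [card_M, show (898128000 : ℕ) = 2 ^ 7 * 3 ^ 6 * 5 ^ 3 * 7 * 11 by norm_num] at hd
  simp only [hp.dvd_mul] at hd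
  rcases hd with (((h | h) | h) | h) | h
  · obtain rfl := (Nat.prime_dvd_prime_iff_eq hp Nat.prime_two).1 (hp.dvd_of_dvd_pow h)
    exact exists_part two Nat.prime_two _ two_cert two_rels two_sep two_conjs
      (by rw [card_M]; decide +kernel)
  · exact absurd ((Nat.prime_dvd_prime_iff_eq hp Nat.prime_three).1 (hp.dvd_of_dvd_pow h)) h3
  · obtain rfl := (Nat.prime_dvd_prime_iff_eq hp Nat.prime_five).1 (hp.dvd_of_dvd_pow h)
    exact exists_part five Nat.prime_five _ five_cert five_rels five_sep five_conjs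
      (by rw [card_M]; decide +kernel)
  · obtain rfl := (Nat.prime_dvd_prime_iff_eq hp (by norm_num)).1 h
    exact exists_cyclic hp seven_ok (by rw [card_M]; norm_num)
  · obtain rfl := (Nat.prime_dvd_prime_iff_eq hp (by norm_num)).1 h
    exact exists_cyclic hp eleven_ok (by rw [card_M]; norm_num)

theorem eq_one_of_prime {Δ : Type} [Group Δ] [Finite Δ] {τ : Δ →* M} (hτ : Cfsg.IsStemExtension τ)
    {z : Δ} (hz : z ∈ τ.ker) {p : ℕ} (hp : p.Prime) (h3 : p ≠ 3) (hzp : z ^ p = 1) : z = 1 := by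
  by_cases hd : p ∣ Nat.card M
  · obtain ⟨S, hS, hk⟩ := killed p hp h3 hd
    exact Schur.Fusion.eq_one_of_killsPart hτ hp hS hk hz hzp
  · exact Schur.Fusion.eq_one_of_not_dvd hτ hp hd hz hzp

theorem coprime_order {Δ : Type} [Group Δ] [Finite Δ] {τ : Δ →* M} (hτ : Cfsg.IsStemExtension τ)
    {z : Δ} (hz : z ∈ τ.ker) {n : ℕ} (hn : ¬ 3 ∣ n) : n.Coprime (orderOf z) := by
  refine Nat.coprime_of_dvd fun p hp hpn hpo => ?_
  have hqo : orderOf (z ^ (orderOf z / p)) = p := orderOf_pow_orderOf_div (orderOf_pos z).ne' hpo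
  have h1 := eq_one_of_prime hτ (pow_mem hz (orderOf z / p)) hp (fun e => hn (e ▸ hpn))
    (orderOf_dvd_iff_pow_eq_one.1 hqo.dvd)
  rw [h1, orderOf_one] at hqo
  exact hp.ne_one hqo.symm

theorem pr2_pow_four {x : K} (hx : x ∈ pi.ker) : pr2 x ^ 4 = 1 :=
  U43Mult.center_pow (U43Mult.mem_ker_sigma.1 (ker_pi ▸ hx))

theorem card_pr1_part : Nat.card ↥(pr1.ker.subgroupOf pi.ker) = 4 := by
  have e : Nat.card ↥(pr1.ker.subgroupOf pi.ker) = Nat.card ↥(Subgroup.center SU4) := by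
    refine Nat.card_eq_of_bijective (fun x => (⟨pr2 x.1.1,
      U43Mult.mem_ker_sigma.1 (ker_pi ▸ x.1.2)⟩ : Subgroup.center SU4)) ⟨fun x y h => ?_, fun c => ?_⟩
    · exact Subtype.ext (Subtype.ext (U43Mult.pr_ext
        ((MonoidHom.mem_ker.1 x.2).trans (MonoidHom.mem_ker.1 y.2).symm) (congrArg Subtype.val h)))
    · obtain ⟨⟨k, hk⟩, he⟩ := U43Mult.kerHom_bijective.2 (c, 1)
      have h1 : pr1 k = 1 := congrArg Subtype.val (Prod.ext_iff.1 he).2
      exact ⟨⟨⟨k, ker_pi.symm ▸ hk⟩, h1⟩, Subtype.ext (congrArg Subtype.val (Prod.ext_iff.1 he).1 :)⟩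
  rw [e, U43Mult.card_center]

theorem commutator_word (u v : List ℕ) : wK (u ++ v) = ⁅wK u, wK v⁆ * wK (v ++ u) := by
  rw [U43Mult.wK_append, U43Mult.wK_append, commutatorElement_def, mul_assoc _ (wK v)⁻¹,
    inv_mul_cancel_left, inv_mul_cancel_right]

theorem exists_fused {Δ : Type} [Group Δ] {τ : Δ →* M} (hτ : Cfsg.IsStemExtension τ) (η : K →* Δ)
    (hη : ∀ k, τ (η k) = pi k) : ∃ k0 : pi.ker, eps k0 ≠ 1 ∧ η k0.1 = 1 := by
  have hfus := fus_ok
  simp only [Bool.and_eq_true, List.all_eq_true, List.mem_range, Nat.blt_eq, Bool.not_eq_true'] at hfus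
  obtain ⟨⟨⟨⟨⟨⟨⟨⟨⟨hsm, ha1⟩, ha2⟩, hne⟩, hc1⟩, hc2⟩, hn1⟩, hn2⟩, hv1⟩, hv2⟩ := hfus
  set x := wK (fw 0)
  set y := wK (fw 1)
  set x' := wK (fw 2)
  set y' := wK (fw 3)
  have hπ : ∀ k < 4, pi (wK (fw k)) = wM (fw k) := fun k hk => pi_wK _ (hsm k hk)
  have hxy : Commute (pi x) (pi y) := by
    show _ * _ = _ * _
    rw [hπ 0 (by norm_num), hπ 1 (by norm_num), ← wM_append, ← wM_append]; exact wM_eq hc1
  have hxy' : Commute (pi x') (pi y') := by
    show _ * _ = _ * _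
    rw [hπ 2 (by norm_num), hπ 3 (by norm_num), ← wM_append, ← wM_append]; exact wM_eq hc2
  have hc : ⁅x, y⁆ ∈ pi.ker := by
    rw [MonoidHom.mem_ker, map_commutatorElement]; exact commutatorElement_eq_one_iff_commute.2 hxy
  have hc' : ⁅x', y'⁆ ∈ pi.ker := by
    rw [MonoidHom.mem_ker, map_commutatorElement]; exact commutatorElement_eq_one_iff_commute.2 hxy'
  obtain ⟨n, hn⟩ := hτ.1 (wM (fw 4))
  have hfeq : η ⁅x', y'⁆ = η ⁅x, y⁆ := by
    rw [map_commutatorElement, map_commutatorElement]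
    refine Schur.Fusion.commutator_conj hτ.2.1 (n := n) (by rw [hη, hη]; exact hxy) ?_ ?_ <;>
      rw [hη, hη, hn, eq_mul_inv_iff_mul_eq, hπ _ (by norm_num), hπ _ (by norm_num), ← wM_append,
        ← wM_append]
    exacts [(wM_eq hn1).symm, (wM_eq hn2).symm]
  set k0 : pi.ker := ⟨⁅x, y⁆, hc⟩⁻¹ * ⟨⁅x', y'⁆, hc'⟩ with hk0
  have hk0f : η k0.1 = 1 := by
    show η (⁅x, y⁆⁻¹ * ⁅x', y'⁆) = 1
    rw [map_mul, map_inv, hfeq, inv_mul_cancel]
  have e1 := eps_eq ⟨⁅x, y⁆, hc⟩ ha1 (eq_of_wvec (z := ⟨⁅x, y⁆, hc⟩) (u := fw 0 ++ fw 1) (v := fw 1 ++ fw 0)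
    (commutator_word (fw 0) (fw 1)) hv1)
  have e2 := eps_eq ⟨⁅x', y'⁆, hc'⟩ ha2 (eq_of_wvec (z := ⟨⁅x', y'⁆, hc'⟩) (u := fw 2 ++ fw 3) (v := fw 3 ++ fw 2)
    (commutator_word (fw 2) (fw 3)) hv2)
  have hk0ne : eps k0 ≠ 1 := by
    rw [hk0, map_mul, map_inv, e1, e2, ne_eq, inv_mul_eq_one]
    intro h
    have h' := congrArg ZMod.val (Multiplicative.ofAdd.injective h)
    rw [ZMod.val_natCast, ZMod.val_natCast, Nat.mod_eq_of_lt ha1, Nat.mod_eq_of_lt ha2] at h'
    rw [h', Nat.beq_refl] at hne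
    exact Bool.noConfusion hne
  exact ⟨k0, hk0ne, hk0f⟩

theorem card_ker_le {Δ : Type} [Group Δ] [Finite Δ] (τ : Δ →* M) (hτ : Cfsg.IsStemExtension τ) :
    Nat.card τ.ker ≤ 3 := by
  set P := pi.range.comap τ with hP
  let ξ : P →* pi.range := τ.subgroupComap pi.range
  have hξ : Function.Surjective ξ := fun u => by
    obtain ⟨d, hd⟩ := hτ.1 u.1
    exact ⟨⟨d, show τ d ∈ pi.range from hd ▸ u.2⟩, Subtype.ext hd⟩
  have hξc : ξ.ker ≤ Subgroup.center P := fun x hx =>
    Subgroup.mem_center_iff.2 fun y => Subtype.ext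
      (Subgroup.mem_center_iff.1 (hτ.2.1 (congrArg Subtype.val hx : τ x.1 = 1)) y.1)
  obtain ⟨η₀, hη₀⟩ := Multiplier.exists_lift_of_trivial U43Mult.perfect_K U43Mult.trivial_K
    pi.rangeRestrict ξ hξ hξc
  let η : K →* Δ := P.subtype.comp η₀
  have hη : ∀ k, τ (η k) = pi k := fun k => congrArg Subtype.val (DFunLike.congr_fun hη₀ k)
  have hker : ∀ k ∈ pi.ker, η k ∈ τ.ker := fun k hk => MonoidHom.mem_ker.2 ((hη k).trans hk)
  let f : pi.ker →* τ.ker := (η.comp pi.ker.subtype).codRestrict τ.ker fun x => hker x.1 x.2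
  have hcomm : ⁅P, P⁆ ≤ η.range := by
    refine Subgroup.commutator_le.2 fun a ha b hb => ?_
    obtain ⟨k, hk⟩ := (ha : τ a ∈ pi.range)
    obtain ⟨l, hl⟩ := (hb : τ b ∈ pi.range)
    exact ⟨⁅k, l⁆, (map_commutatorElement η k l).trans
      (Schur.Fusion.commutator_congr hτ.2.1 ((hη k).trans hk) ((hη l).trans hl))⟩
  have hidx : P.index = 275 := by
    rw [hP, Subgroup.index_comap_of_surjective _ hτ.1, range_pi, index_U]
  have hf : Function.Surjective f := by
    rintro ⟨z, hz⟩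
    have h := Schur.Fusion.pow_index_mem_commutator P (hτ.2.1 hz) (hτ.2.2 hz)
    rw [hidx] at h
    obtain ⟨k, hk⟩ := hcomm h
    obtain ⟨m, hm⟩ := exists_pow_eq_self_of_coprime (coprime_order hτ hz (n := 275) (by norm_num))
    have hkk : k ∈ pi.ker := by
      rw [MonoidHom.mem_ker, ← hη, hk, map_pow, MonoidHom.mem_ker.1 hz, one_pow]
    refine ⟨⟨k ^ m, pow_mem hkk m⟩, Subtype.ext ?_⟩
    show η (k ^ m) = z
    rw [map_pow, hk, hm]
  -- the part with trivial scalars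
  have h4 : pr1.ker.subgroupOf pi.ker ≤ f.ker := by
    intro x hx
    have hx4 : x.1 ^ 4 = 1 := U43Mult.pr_ext
      (by rw [map_pow, show pr1 x.1 = 1 from hx, one_pow, map_one]) (by rw [map_pow, pr2_pow_four x.2, map_one])
    refine Subtype.ext ?_
    show η x.1 = 1
    have hd : orderOf (η x.1) ∣ 4 := orderOf_dvd_of_pow_eq_one (by rw [← map_pow, hx4, map_one])
    exact orderOf_eq_one_iff.1 (Nat.Coprime.eq_one_of_dvd
      (coprime_order hτ (hker _ x.2) (n := 4) (by norm_num)).symm hd)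
  obtain ⟨k0, hk0ne, hk0e⟩ := exists_fused hτ η hη
  have hk0f : k0 ∈ f.ker := Subtype.ext hk0e
  have h3 : 3 ∣ Nat.card f.ker := by
    have hd : orderOf (eps k0) ∣ orderOf (⟨k0, hk0f⟩ : f.ker) := by
      rw [Subgroup.orderOf_mk]
      exact orderOf_map_dvd eps k0
    have h3' : orderOf (eps k0) = 3 := by
      have := Fact.mk Nat.prime_three
      refine orderOf_eq_prime ?_ hk0ne
      have h := pow_card_eq_one' (x := eps k0)
      rwa [Nat.card_congr Multiplicative.toAdd, Nat.card_zmod] at h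
    exact (h3' ▸ hd).trans (orderOf_dvd_natCard _)
  have h4' : 4 ∣ Nat.card f.ker := card_pr1_part.symm.dvd.trans (Subgroup.card_dvd_of_le h4)
  have h12 : 12 ∣ Nat.card f.ker := Nat.Coprime.mul_dvd_of_dvd_of_dvd (m := 3) (n := 4) (by norm_num) h3 h4'
  have hmul := f.ker.card_mul_index
  rw [Subgroup.index_ker, MonoidHom.range_eq_top.2 hf, Subgroup.card_top, card_ker_pi] at hmul
  have hpos : 12 ≤ Nat.card f.ker := Nat.le_of_dvd Nat.card_pos h12
  nlinarith

/-- The multiplier of the stabiliser of the two vectors. -/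
theorem multiplier_M : HasCyclicSchurMultiplier M 3 := by
  obtain ⟨Γ, _, _, σ, hσ, ⟨e⟩⟩ := exists_three
  refine Multiplier.hasSchurMultiplier_of_cover σ hσ e fun Δ _ _ τ hτ => ?_
  rw [Nat.card_congr Multiplicative.toAdd, Nat.card_zmod]
  exact card_ker_le τ hτ

/-- The multiplier of the McLaughlin group. -/
theorem multiplier : HasCyclicSchurMultiplier Spor.McL 3 :=
  Multiplier.hasSchurMultiplier_congr equivM (MulEquiv.refl _) multiplier_M

end Cfsg.Agent.Lib.McLMult
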