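import Cfsg.Agent.Lib.McLMult.PointData
import Cfsg.Agent.Lib.LatticeUnitary.U4
import Cfsg.Agent.Lib.MathieuFusion.McL

/-!
# The McLaughlin group on 275 points

The stabiliser of the two standard vectors permutes 275 minimal vectors; words in three automorphisms
are evaluated on them by coded permutations.
-/

set_option autoImplicit false
set_option maxRecDepth 20000
set_option Elab.async false

namespace Cfsg.Agent.Lib.McLMult

open Cfsg Cfsg.Agent.Lib.Co3Model Cfsg.Agent.Lib.Leech
open Cfsg.Agent.Lib.LatticeUnitary.U4 (u0 v0 x0 lu0 lv0 lx0 lv_u0 lv_v0 lv_x0 decY encY yc sqNorm_u0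
  sqNorm_v0 sqNorm_x0 dot_u0_v0 dot_u0_x0 dot_v0_x0)
open Cfsg.Agent.Lib.Computation (getW)

/-- The group. -/
noncomputable abbrev M : Subgroup Co0 := MulAction.stabilizer Co0 u0 ⊓ MulAction.stabilizer Co0 v0

/-- The three generators as words in primitives. -/
def genOps : List (List Op) := LatticeUnitary.U4.atoms ++ [extraOps]

/-- The image of a point under a letter. -/
def imgG (s i : ℕ) : ℕ := bif Nat.blt s 3 then getW 9 (perms.getD s 0) i else i

/-- The image of a point under a word. -/
def imgW (w : List ℕ) (i : ℕ) : ℕ := w.foldr imgG i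

/-- The code of a point. -/
def pc (i : ℕ) : ℕ := getW 96 ptCodes i

theorem genOps_ok : (List.range 3).all (fun s => (genOps.getD s []).all Op.ok &&
    (appWord (genOps.getD s []) lu0 == lu0) && (appWord (genOps.getD s []) lv0 == lv0)) = true := by
  decide +kernel

theorem perm_zero : (List.range 275).all (fun i => Nat.blt (imgG 0 i) 275 &&
    (appWord (genOps.getD 0 []) (decY (pc i)) == decY (pc (imgG 0 i)))) = true := by decide +kernel

theorem perm_one : (List.range 275).all (fun i => Nat.blt (imgG 1 i) 275 &&
    (appWord (genOps.getD 1 []) (decY (pc i)) == decY (pc (imgG 1 i)))) = true := by decide +kernel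

theorem perm_two : (List.range 275).all (fun i => Nat.blt (imgG 2 i) 275 &&
    (appWord (genOps.getD 2 []) (decY (pc i)) == decY (pc (imgG 2 i)))) = true := by decide +kernel

theorem pts_ok : (List.range 275).all (fun i => Nat.beq (encY (decY (pc i))) (pc i) &&
    Nat.beq (imgW (tws.getD i []) 0) i && (Nat.beq i 274 || Nat.blt (pc i) (pc (i + 1)))) = true := by
  decide +kernel

theorem root_code : decY (pc 0) = lx0 := by decide +kernel

attribute [local irreducible] pc decY appWord genOps

theorem gen_spec {s : ℕ} (h : s < 3) : (genOps.getD s []).all Op.ok = true ∧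
    appWord (genOps.getD s []) lu0 = lu0 ∧ appWord (genOps.getD s []) lv0 = lv0 := by
  have := List.all_eq_true.1 genOps_ok s (List.mem_range.2 h)
  simpa [Bool.and_eq_true, and_assoc] using this

theorem perm_spec {s : ℕ} (h : s < 3) {i : ℕ} (hi : i < 275) : imgG s i < 275 ∧
    appWord (genOps.getD s []) (decY (pc i)) = decY (pc (imgG s i)) := by
  have := fun t (ht : (List.range 275).all (fun i => Nat.blt (imgG t i) 275 &&
    (appWord (genOps.getD t []) (decY (pc i)) == decY (pc (imgG t i)))) = true) =>
    List.all_eq_true.1 ht i (List.mem_range.2 hi)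
  simp only [Bool.and_eq_true, Nat.blt_eq, beq_iff_eq] at this
  interval_cases s
  exacts [this 0 perm_zero, this 1 perm_one, this 2 perm_two]

theorem imgG_lt (s : ℕ) {i : ℕ} (hi : i < 275) : imgG s i < 275 := by
  by_cases h : s < 3
  · exact (perm_spec h hi).1
  · rw [imgG, show Nat.blt s 3 = false by simpa [Bool.eq_false_iff, Nat.blt_eq] using h]
    exact hi

theorem imgW_lt : ∀ (w : List ℕ) {i : ℕ}, i < 275 → imgW w i < 275
  | [], _, hi => hi
  | s :: w, _, hi => imgG_lt s (imgW_lt w hi)

/-- A generator. -/
noncomputable def gM (s : ℕ) : M :=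
  if h : s < 3 then ⟨wordElt (genOps.getD s []),
    lv_injective (by rw [lv_word (gen_spec h).1, lv_u0]; exact (gen_spec h).2.1),
    lv_injective (by rw [lv_word (gen_spec h).1, lv_v0]; exact (gen_spec h).2.2)⟩
  else 1

/-- A word. -/
noncomputable def wM (w : List ℕ) : M := (w.map gM).prod

theorem wM_cons (s : ℕ) (w : List ℕ) : wM (s :: w) = gM s * wM w := by simp [wM]

theorem wM_append (u w : List ℕ) : wM (u ++ w) = wM u * wM w := by simp [wM]

theorem lv_gM (s : ℕ) {i : ℕ} (hi : i < 275) {z : leechLattice} (hz : lv z = decY (pc i)) :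
    lv ((gM s : Co0) • z) = decY (pc (imgG s i)) := by
  by_cases h : s < 3
  · rw [gM, dif_pos h, lv_word (gen_spec h).1, hz]
    exact (perm_spec h hi).2
  · rw [gM, dif_neg h, Subgroup.coe_one, one_smul, hz, imgG,
      show Nat.blt s 3 = false by simpa [Bool.eq_false_iff, Nat.blt_eq] using h]
    rfl

theorem lv_wM : ∀ (w : List ℕ) {i : ℕ}, i < 275 → ∀ {z : leechLattice}, lv z = decY (pc i) →
    lv ((wM w : Co0) • z) = decY (pc (imgW w i))
  | [], _, _, z, hz => by
    rw [show wM [] = 1 from rfl, Subgroup.coe_one, one_smul]; exact hz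
  | s :: w, i, hi, z, hz => by
    rw [wM_cons, Subgroup.coe_mul, mul_smul]
    exact lv_gM s (imgW_lt w hi) (lv_wM w hi hz)

/-- The word of the transversal. -/
noncomputable def tM (i : Fin 275) : M := wM (tws.getD i.1 [])

/-- A point. -/
noncomputable def pt (i : Fin 275) : leechLattice := (tM i : Co0) • x0

theorem lv_pt (i : Fin 275) : lv (pt i) = decY (pc i) := by
  have h := lv_wM (tws.getD i.1 []) (show (0 : ℕ) < 275 by norm_num) (z := x0)
    (lv_x0.trans root_code.symm)
  have h' := List.all_eq_true.1 pts_ok i.1 (List.mem_range.2 i.2)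
  simp only [Bool.and_eq_true, Nat.beq_eq] at h'
  rw [h'.1.2] at h
  exact h

theorem pt_injective : Function.Injective pt := by
  have hs : ∀ i : Fin 275, encY (decY (pc i)) = pc i ∧ (i.1 = 274 ∨ pc i < pc (i + 1 : ℕ)) := by
    intro i
    have h := List.all_eq_true.1 pts_ok i.1 (List.mem_range.2 i.2)
    simp only [Bool.and_eq_true, Bool.or_eq_true, Nat.beq_eq, Nat.blt_eq] at h
    exact ⟨h.1.1, h.2⟩
  have hmono : StrictMono fun j : Fin 275 => pc j := by
    refine Fin.strictMono_iff_lt_succ.2 fun i => ?_
    rcases (hs i.castSucc).2 with h | h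
    · have := i.2; simp at h; omega
    · simpa using h
  intro a b hab
  refine hmono.injective ?_
  show pc a = pc b
  rw [← (hs a).1, ← (hs b).1, ← lv_pt, ← lv_pt, hab]

/-- The letter word moves the points as coded. -/
theorem wM_pt (w : List ℕ) (i : Fin 275) :
    (wM w : Co0) • pt i = pt ⟨imgW w i.1, imgW_lt w i.2⟩ :=
  lv_injective (by rw [lv_wM w i.2 (lv_pt i), lv_pt])

theorem exists_image (g : M) (i : Fin 275) : ∃ j, (g : Co0) • pt i = pt j := by
  classical
  set X := (SporStruct.LeechCounts.shell 32).filter fun x =>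
    dotInt (vec u0) (vec x) = 24 ∧ dotInt (vec v0) (vec x) = 16 with hX
  have hmem : ∀ h : M, (h : Co0) • x0 ∈ X := by
    intro h
    simp only [hX, Finset.mem_filter, SporStruct.LeechCounts.mem_shell]
    have a := dot_smul (h : Co0) u0 x0
    have b := dot_smul (h : Co0) v0 x0
    rw [MulAction.mem_stabilizer_iff.1 h.2.1] at a
    rw [MulAction.mem_stabilizer_iff.1 h.2.2] at b
    exact ⟨(norm_smul' _ x0).trans sqNorm_x0, a.trans dot_u0_x0, b.trans dot_v0_x0⟩
  have himg : Finset.univ.image pt = X := by
    refine Finset.eq_of_subset_of_card_le (fun z hz => ?_) ?_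
    · obtain ⟨j, -, rfl⟩ := Finset.mem_image.1 hz
      exact hmem (tM j)
    · rw [Finset.card_image_of_injective _ pt_injective, Finset.card_univ, Fintype.card_fin]
      exact le_of_eq (SporStruct.LeechTriples.count275 sqNorm_u0 sqNorm_v0 dot_u0_v0)
  have h := hmem (g * tM i)
  rw [← himg, Finset.mem_image] at h
  obtain ⟨j, -, hj⟩ := h
  exact ⟨j, by rw [hj, Subgroup.coe_mul, mul_smul]; rfl⟩

/-- The action on the points. -/
noncomputable def act (g : M) (i : Fin 275) : Fin 275 := (exists_image g i).choose

theorem act_spec (g : M) (i : Fin 275) : (g : Co0) • pt i = pt (act g i) :=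
  (exists_image g i).choose_spec

theorem act_wM (w : List ℕ) (i : Fin 275) : (act (wM w) i).1 = imgW w i.1 :=
  congrArg Fin.val (pt_injective ((act_spec _ i).symm.trans (wM_pt w i)))

theorem act_one (i : Fin 275) : act 1 i = i :=
  pt_injective ((act_spec 1 i).symm.trans (one_smul _ _))

theorem act_mul (g h : M) (i : Fin 275) : act (g * h) i = act g (act h i) := by
  apply pt_injective
  rw [← act_spec, ← act_spec, ← act_spec, Subgroup.coe_mul, mul_smul]

/-- The permutation representation. -/
noncomputable def perm : M →* Equiv.Perm (Fin 275) where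
  toFun g :=
    { toFun := act g
      invFun := act g⁻¹
      left_inv := fun i => by rw [← act_mul, inv_mul_cancel, act_one]
      right_inv := fun i => by rw [← act_mul, mul_inv_cancel, act_one] }
  map_one' := Equiv.ext act_one
  map_mul' g h := Equiv.ext (act_mul g h)

/-- The sign change carrying the defined configuration to the standard one. -/
noncomputable def signElt : Co0 := wordElt [Op.sign LatticeUnitary.U4.uMask]

theorem M_eq : M = MathieuFusion.McL.H.map (MulAut.conj signElt).toMonoidHom := by
  have hok : ([Op.sign LatticeUnitary.U4.uMask].all Op.ok) = true := by decide +kernel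
  have hv : signElt • (-Spor.leechV) = u0 := lv_injective (by
    rw [signElt, lv_word hok, lv_u0]
    decide +kernel)
  have hu : signElt • Spor.leechU = v0 := lv_injective (by
    rw [signElt, lv_word hok, lv_v0]
    decide +kernel)
  have hneg : MulAction.stabilizer Co0 Spor.leechV = MulAction.stabilizer Co0 (-Spor.leechV) := by
    ext g
    simp only [MulAction.mem_stabilizer_iff, smul_neg', neg_inj]
  show MulAction.stabilizer Co0 u0 ⊓ MulAction.stabilizer Co0 v0 = _
  rw [MathieuFusion.McL.H, hneg, Subgroup.map_inf _ _ _ (MulAut.conj signElt).injective, ← hv, ← hu,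
    MulAction.stabilizer_smul_eq_stabilizer_map_conj,
    MulAction.stabilizer_smul_eq_stabilizer_map_conj]

/-- The identification with the defined group. -/
noncomputable def equivM : M ≃* Spor.McL :=
  ((MulEquiv.subgroupCongr M_eq).trans (MathieuFusion.McL.H.equivMapOfInjective
    (MulAut.conj signElt).toMonoidHom (MulAut.conj signElt).injective).symm).trans
    MathieuFusion.McL.equiv

theorem card_M : Nat.card M = 898128000 := by
  rw [M_eq, Subgroup.card_map_of_injective (K := MathieuFusion.McL.H) (MulAut.conj signElt).injective,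
    MathieuFusion.McL.card_H]

instance finite_M : Finite M := Nat.finite_of_card_ne_zero (by rw [card_M]; norm_num)

end Cfsg.Agent.Lib.McLMult
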